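import Cfsg.Agent.Spor.Ly3125.X.D0

set_option autoImplicit false
set_option maxRecDepth 100000000
set_option Elab.async false

namespace Cfsg.Agent.Spor.Ly3125.X

theorem gr3 : sub M2 (U.growI W1 [1, 1, 0, 0, 1, 1, 0, 0, 1, 1, 0, 0, 1, 1, 0] (Nat.shiftLeft 1 0)) = true := by decide +kernel

theorem fx : U.fixIn 12 3125 [3, 1, 4, 2] (Nat.lor M2 0) = true := by decide +kernel

end Cfsg.Agent.Spor.Ly3125.X
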