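import Cfsg.Agent.Spor.Chk2
import Cfsg.Agent.Spor.Ly3125.D0
import Cfsg.Agent.Spor.PX0

set_option autoImplicit false
set_option maxRecDepth 100000000
set_option Elab.async false
noncomputable section

namespace Cfsg.Agent.Spor.Ly3125.X

def W1 : List (List Nat) := [[4, 2, 4, 4, 1, 4, 1, 3], [3, 3, 5, 4, 5, 4]]

def M2 : Nat := nat_lit 0x88000000800040c000001000008000010200000000600008010000000000040c08000800100001000080000000000000000000040000250000030010000000140000020000002000004000000100888800110000a042000000080000000040c00100400000018880000000000010000000040000400000000008000000000001000000000000000000000280004000180000000000110200000002400004000000000100008020000a3000000000000000000000100000000000000000080000100000000008002000000000000014000000000000410000000021000000000080000010000000000000002800001100000000000204000000000200000000000100000000080000000000000000001214000010100800000080000000000000000000004040000000000000100000000000004000004000000000028000000000000000000001001000080000000000000000000010000008000000000000000014000000000002000000000000000000008000000000000000000000000000001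

def U : Tab := ⟨[n0, n1, n2, n3, n4, n5, n6], [⟨0, false, 0, 0, []⟩, ⟨0, false, 0, 0, []⟩, ⟨0, true, 0, 0, []⟩, ⟨1, false, 0, 0, []⟩, ⟨1, true, 0, 0, []⟩, ⟨2, false, 0, 0, []⟩, ⟨2, true, 0, 0, []⟩, ⟨3, false, 0, 0, []⟩, ⟨3, true, 0, 0, []⟩, ⟨4, false, 0, 0, []⟩, ⟨4, true, 0, 0, []⟩, ⟨5, false, 0, 0, []⟩, ⟨5, true, 0, 0, []⟩, ⟨6, false, 0, 0, []⟩, ⟨6, true, 0, 0, []⟩]⟩

end Cfsg.Agent.Spor.Ly3125.X
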